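import Groth.Agent.Lefpen.H704.Scale
import Groth.Agent.Lefpen.H705.HypIdeal

/-!
# Change of generators of a Lefschetz pencil

Input for S4030 (helper711, package (R)): if `(F, G)` spans a Lefschetz pencil for `X` and `H` is a transversal member,
there is a form `F₁` in the span of `F, G` with `(F₁, H)` a Lefschetz pencil, `F₁` transversal, the same base ideal, and
the singular members of `(F, G)` in bijection with the `c` for which `F₁ + c H` is not transversal.
-/

set_option autoImplicit false

universe u

open CategoryTheory CategoryTheory.Limits AlgebraicGeometry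

namespace Groth.Agent.Lefpen.H9.PencilRed

open LefPen Groth.Agent.Lefpen.H704.Scale Groth.Agent.Lefpen.H705.HypIdeal

variable {r : ℕ} {k : Type u} [Field k] {d : ℕ}

/-- The ideal of a combination of two forms is contained in the ideal of the two forms. -/
theorem hypIdeal_comb_le (a b : k) (F G : Form r k d) :
    hypIdeal (a • F + b • G) ≤ hypIdeal F ⊔ hypIdeal G := by
  refine Scheme.IdealSheafData.le_of_iSup_eq_top
    (fun j : Fin (r + 1) => (⟨chart r k j, isAffineOpen_chart j⟩ : (CohB1.ProjSpace r k).affineOpens))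
    iSup_chart ?_
  intro j
  rw [Scheme.IdealSheafData.ideal_sup, Pi.sup_apply,
    hypIdeal_ideal_of_le _ j ⟨chart r k j, isAffineOpen_chart j⟩ le_rfl,
    hypIdeal_ideal_of_le _ j ⟨chart r k j, isAffineOpen_chart j⟩ le_rfl,
    hypIdeal_ideal_of_le _ j ⟨chart r k j, isAffineOpen_chart j⟩ le_rfl,
    Ideal.span_singleton_le_iff_mem, dehom_add, dehom_smul, dehom_smul, ← Ideal.span_insert]
  rw [map_add, map_mul, map_mul]
  exact Ideal.add_mem _
    (Ideal.mul_mem_left _ _ (Ideal.subset_span (Set.mem_insert _ _)))
    (Ideal.mul_mem_left _ _ (Ideal.subset_span (Set.mem_insert_of_mem _ rfl)))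

theorem hypIdeal_sup_le (a b c e : k) (F G : Form r k d) :
    hypIdeal (a • F + b • G) ⊔ hypIdeal (c • F + e • G) ≤ hypIdeal F ⊔ hypIdeal G :=
  sup_le (hypIdeal_comb_le a b F G) (hypIdeal_comb_le c e F G)

/-- The ideal of two forms only depends on their span. -/
theorem hypIdeal_sup_eq {a b c e : k} (h : a * e - b * c ≠ 0) (F G : Form r k d) :
    hypIdeal (a • F + b • G) ⊔ hypIdeal (c • F + e • G) = hypIdeal F ⊔ hypIdeal G := by
  refine le_antisymm (hypIdeal_sup_le a b c e F G) ?_
  set D := a * e - b * c with hD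
  have h1 : F = (D⁻¹ * e) • (a • F + b • G) + (-(D⁻¹ * b)) • (c • F + e • G) := by
    have : (D⁻¹ * e) • (a • F + b • G) + (-(D⁻¹ * b)) • (c • F + e • G) =
        (D⁻¹ * (a * e - b * c)) • F := by
      module
    rw [this, ← hD, inv_mul_cancel₀ h, one_smul]
  have h2 : G = (-(D⁻¹ * c)) • (a • F + b • G) + (D⁻¹ * a) • (c • F + e • G) := by
    have : (-(D⁻¹ * c)) • (a • F + b • G) + (D⁻¹ * a) • (c • F + e • G) =
        (D⁻¹ * (a * e - b * c)) • G := by
      module
    rw [this, ← hD, inv_mul_cancel₀ h, one_smul]
  refine sup_le ?_ ?_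
  · conv_lhs => rw [h1]
    exact hypIdeal_comb_le _ _ _ _
  · conv_lhs => rw [h2]
    exact hypIdeal_comb_le _ _ _ _

theorem secIdeal_pair_eq {X : Scheme.{u}} (i : X ⟶ CohB1.ProjSpace r k) {a b c e : k}
    (h : a * e - b * c ≠ 0) (F G : Form r k d) :
    secIdeal i {a • F + b • G, c • F + e • G} = secIdeal i {F, G} := by
  rw [secIdeal_pair, secIdeal_pair, hypIdeal_sup_eq h]

theorem transversal_congr {X : Scheme.{u}} (i : X ⟶ CohB1.ProjSpace r k) (n e : ℕ)
    {s t : Set (Form r k d)} (h : secIdeal i s = secIdeal i t) :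
    Transversal k n e (secToSpec i s) ↔ Transversal k n e (secToSpec i t) := by
  let P : X.IdealSheafData → Prop := fun I =>
    Transversal k n e (I.subschemeι ≫ i ≫ CohB1.ProjSpace.toSpec r k)
  change P (secIdeal i s) ↔ P (secIdeal i t)
  rw [h]

/-- The general form: the members of `(F₁, H)` are, up to scalars, the members of `(F, G)`. -/
theorem of_param {X : Scheme.{u}} (i : X ⟶ CohB1.ProjSpace r k) (n : ℕ) {F G F₁ H : Form r k d}
    (hL : IsLefschetzPencil k n i d F G) (hH : Transversal k n 1 (secToSpec i {H}))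
    (m : k → Form r k d) (l : k → k) (hl : ∀ c, l c ≠ 0) (hml : ∀ c, F₁ + c • H = l c • m c)
    (hmem : ∀ c, m c ∈ members k F G) (hinj : Function.Injective m)
    (hsurj : ∀ H' ∈ members k F G, ¬ Transversal k n 1 (secToSpec i {H'}) → ∃ c, m c = H')
    (hlin : LinearIndependent k ![F₁, H]) (hsec : secIdeal i {F₁, H} = secIdeal i {F, G}) :
    IsLefschetzPencil k n i d F₁ H ∧
    Nat.card {H' : Form r k d // H' ∈ members k F G ∧ ¬ Transversal k n 1 (secToSpec i {H'})} =
      Nat.card {c : k // ¬ Transversal k n 1 (secToSpec i {F₁ + c • H})} := by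
  have hT : ∀ c, Transversal k n 1 (secToSpec i {F₁ + c • H}) ↔ Transversal k n 1 (secToSpec i {m c}) := by
    intro c
    rw [hml c]
    exact transversal_smul_iff i n 1 (hl c) (m c)
  have hQ : ∀ c, OneOrdQuad k n i (F₁ + c • H) ↔ OneOrdQuad k n i (m c) := by
    intro c
    rw [hml c]
    exact oneOrdQuad_smul_iff i n (hl c) (m c)
  refine ⟨⟨hlin, (transversal_congr i n 2 hsec).2 hL.2.1, ?_, ?_⟩, ?_⟩
  · have hfin : {H' : Form r k d | H' ∈ members k F G ∧ ¬ Transversal k n 1 (secToSpec i {H'})}.Finite := by
      refine ((hL.2.2.1.image fun c => F + c • G).insert G).subset ?_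
      rintro H' ⟨h1 | ⟨c, rfl⟩, h2⟩
      · exact Set.mem_insert_iff.2 (Or.inl h1)
      · exact Set.mem_insert_of_mem _ ⟨c, h2, rfl⟩
    refine Set.Finite.of_injOn (f := m) (t := {H' : Form r k d | H' ∈ members k F G ∧
      ¬ Transversal k n 1 (secToSpec i {H'})}) ?_ hinj.injOn hfin
    intro c hc
    exact ⟨hmem c, fun h => hc ((hT c).2 h)⟩
  · rintro H' (h1 | ⟨c, rfl⟩) h2
    · rw [Set.mem_singleton_iff] at h1
      subst h1
      exact absurd hH h2
    · exact (hQ c).2 (hL.2.2.2 _ (hmem c) fun h => h2 ((hT c).2 h))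
  · symm
    refine Nat.card_eq_of_bijective (fun c => ⟨m c.1, hmem c.1, fun h => c.2 ((hT c.1).2 h)⟩) ⟨?_, ?_⟩
    · intro c c' h
      exact Subtype.ext (hinj (congrArg Subtype.val h))
    · rintro ⟨H', h1, h2⟩
      obtain ⟨c, rfl⟩ := hsurj H' h1 h2
      exact ⟨⟨c, fun h => h2 ((hT c).1 h)⟩, rfl⟩

theorem lin_pair {F G : Form r k d} (h : LinearIndependent k ![F, G]) {a b : k}
    (hab : a • F + b • G = 0) : a = 0 ∧ b = 0 :=
  LinearIndependent.pair_iff.1 h a b hab

/-- Reduction of a Lefschetz pencil `(F, G)` with a transversal member `H` to a Lefschetz pencil `(F₁, H)` with `F₁`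
transversal, the same base locus and the same number of singular members. -/
theorem exists_reduction [Infinite k] {X : Scheme.{u}} (i : X ⟶ CohB1.ProjSpace r k) (n : ℕ)
    {F G H : Form r k d} (hL : IsLefschetzPencil k n i d F G) (hHm : H ∈ members k F G)
    (hH : Transversal k n 1 (secToSpec i {H})) :
    ∃ F₁ : Form r k d, (∃ a b : k, F₁ = a • F + b • G) ∧ IsLefschetzPencil k n i d F₁ H ∧
      Transversal k n 1 (secToSpec i {F₁}) ∧ secIdeal i {F₁, H} = secIdeal i {F, G} ∧
      Nat.card {H' : Form r k d // H' ∈ members k F G ∧ ¬ Transversal k n 1 (secToSpec i {H'})} =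
        Nat.card {c : k // ¬ Transversal k n 1 (secToSpec i {F₁ + c • H})} := by
  rcases hHm with hHG | ⟨c₁, rfl⟩
  · rw [Set.mem_singleton_iff] at hHG
    subst hHG
    obtain ⟨c₀, hc₀⟩ := hL.2.2.1.exists_notMem
    rw [Set.mem_ofPred_eq, not_not] at hc₀
    have hsec : secIdeal i {F + c₀ • H, H} = secIdeal i {F, H} := by
      have := secIdeal_pair_eq i (a := 1) (b := c₀) (c := 0) (e := 1) (by simp) F H
      simpa only [one_smul, zero_smul, zero_add] using this
    have hlin : LinearIndependent k ![F + c₀ • H, H] := by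
      rw [LinearIndependent.pair_iff]
      intro s t hst
      obtain ⟨h1, h2⟩ := lin_pair hL.1 (a := s) (b := s * c₀ + t) (by rw [← hst]; module)
      refine ⟨h1, ?_⟩
      rw [h1, zero_mul, zero_add] at h2
      exact h2
    obtain ⟨h1, h2⟩ := of_param i n (F₁ := F + c₀ • H) hL hH (fun c => F + (c₀ + c) • H) (fun _ => 1)
      (fun _ => one_ne_zero) (fun c => by module) (fun c => Or.inr ⟨c₀ + c, rfl⟩)
      (by
        intro c c' h
        simp only at h
        have h0 := lin_pair hL.1 (a := 0) (b := c - c') (by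
          have : (c - c') • H = (F + (c₀ + c) • H) - (F + (c₀ + c') • H) := by module
          rw [zero_smul, zero_add, this, h, sub_self])
        exact sub_eq_zero.1 h0.2)
      (by
        rintro H' (h1 | ⟨c, rfl⟩) h2
        · rw [Set.mem_singleton_iff] at h1
          subst h1
          exact absurd hH h2
        · exact ⟨c - c₀, by simp only; congr 2; ring⟩)
      hlin hsec
    exact ⟨F + c₀ • H, ⟨1, c₀, by rw [one_smul]⟩, h1, hc₀, hsec, h2⟩
  · obtain ⟨c₀, hc₀⟩ := (hL.2.2.1.insert c₁).exists_notMem
    rw [Set.mem_insert_iff, not_or, Set.mem_ofPred_eq, not_not] at hc₀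
    obtain ⟨hne, hc₀⟩ := hc₀
    have hne' : c₀ - c₁ ≠ 0 := sub_ne_zero.2 hne
    have hsec : secIdeal i {F + c₀ • G, F + c₁ • G} = secIdeal i {F, G} := by
      have := secIdeal_pair_eq i (a := 1) (b := c₀) (c := 1) (e := c₁)
        (by rw [one_mul, mul_one]; exact sub_ne_zero.2 (Ne.symm hne)) F G
      simpa only [one_smul] using this
    have hlin : LinearIndependent k ![F + c₀ • G, F + c₁ • G] := by
      rw [LinearIndependent.pair_iff]
      intro s t hst
      obtain ⟨h1, h2⟩ := lin_pair hL.1 (a := s + t) (b := s * c₀ + t * c₁) (by rw [← hst]; module)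
      have ht : t = -s := by linear_combination h1
      subst ht
      have hs : s * (c₀ - c₁) = 0 := by linear_combination h2
      rcases mul_eq_zero.1 hs with hs | hs
      · subst hs; exact ⟨rfl, neg_zero⟩
      · exact absurd hs hne'
    classical
    obtain ⟨h1, h2⟩ := of_param i n (F₁ := F + c₀ • G) hL hH
      (fun c => if c = -1 then G else F + ((c₀ + c * c₁) / (1 + c)) • G)
      (fun c => if c = -1 then c₀ - c₁ else 1 + c)
      (by
        intro c
        split_ifs with h
        · exact hne'
        · intro h'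
          exact h (by linear_combination h'))
      (by
        intro c
        split_ifs with h
        · subst h
          module
        · have h' : 1 + c ≠ 0 := fun h' => h (by linear_combination h')
          have : (c₀ + c * c₁) = (1 + c) * ((c₀ + c * c₁) / (1 + c)) := by
            rw [mul_div_cancel₀ _ h']
          rw [smul_add (1 + c), smul_smul, ← this]
          module)
      (by
        intro c
        split_ifs with h
        · exact Or.inl rfl
        · exact Or.inr ⟨_, rfl⟩)
      (by
        intro c c' h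
        simp only at h
        split_ifs at h with h1 h2 h2
        · rw [h1, h2]
        · exfalso
          have h0 := lin_pair hL.1 (a := -1) (b := 1 - (c₀ + c' * c₁) / (1 + c')) (by
            have : (-1 : k) • F + (1 - (c₀ + c' * c₁) / (1 + c')) • G =
              G - (F + ((c₀ + c' * c₁) / (1 + c')) • G) := by module
            rw [this, ← h, sub_self])
          exact neg_ne_zero.2 one_ne_zero h0.1
        · exfalso
          have h0 := lin_pair hL.1 (a := -1) (b := 1 - (c₀ + c * c₁) / (1 + c)) (by
            have : (-1 : k) • F + (1 - (c₀ + c * c₁) / (1 + c)) • G =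
              G - (F + ((c₀ + c * c₁) / (1 + c)) • G) := by module
            rw [this, h, sub_self])
          exact neg_ne_zero.2 one_ne_zero h0.1
        · have h0 := lin_pair hL.1 (a := 0) (b := (c₀ + c * c₁) / (1 + c) - (c₀ + c' * c₁) / (1 + c')) (by
            have : (0 : k) • F + ((c₀ + c * c₁) / (1 + c) - (c₀ + c' * c₁) / (1 + c')) • G =
              (F + ((c₀ + c * c₁) / (1 + c)) • G) - (F + ((c₀ + c' * c₁) / (1 + c')) • G) := by module
            rw [this, h, sub_self])
          have h3 := sub_eq_zero.1 h0.2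
          have hc : 1 + c ≠ 0 := fun h' => h1 (by linear_combination h')
          have hc' : 1 + c' ≠ 0 := fun h' => h2 (by linear_combination h')
          rw [div_eq_div_iff hc hc'] at h3
          have h4 : (c₀ - c₁) * (c' - c) = 0 := by linear_combination h3
          rcases mul_eq_zero.1 h4 with h4 | h4
          · exact absurd h4 hne'
          · exact (sub_eq_zero.1 h4).symm)
      (by
        rintro H' (h1 | ⟨x, rfl⟩) h2
        · rw [Set.mem_singleton_iff] at h1
          subst h1
          exact ⟨-1, by simp⟩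
        · have hx : c₁ - x ≠ 0 := by
            intro h
            have : x = c₁ := by linear_combination -h
            subst this
            exact h2 hH
          have h1c : 1 + (x - c₀) / (c₁ - x) = (c₁ - c₀) / (c₁ - x) := by
            field_simp
            ring
          have hcc : c₁ - c₀ ≠ 0 := sub_ne_zero.2 (Ne.symm hne)
          have h1c' : 1 + (x - c₀) / (c₁ - x) ≠ 0 := by
            rw [h1c]
            exact div_ne_zero hcc hx
          refine ⟨(x - c₀) / (c₁ - x), ?_⟩
          simp only
          rw [if_neg (fun h => h1c' (by rw [h]; ring))]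
          congr 2
          rw [div_eq_iff h1c']
          field_simp
          ring)
      hlin hsec
    exact ⟨F + c₀ • G, ⟨1, c₀, by rw [one_smul]⟩, h1, hc₀, hsec, h2⟩

end Groth.Agent.Lefpen.H9.PencilRed
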